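import Mathlib.Topology.NoetherianSpace

set_option autoImplicit false

open TopologicalSpace

namespace Groth.Agent.NoethTop

variable {α : Type*} [TopologicalSpace α]

/-- A compact subset of a locally noetherian space is noetherian. -/
lemma noetherianSpace_of_isCompact
    (h : ∀ x : α, ∃ U : Set α, IsOpen U ∧ x ∈ U ∧ NoetherianSpace U) {K : Set α}
    (hK : IsCompact K) : NoetherianSpace K := by
  choose U hU hxU hN using h
  obtain ⟨t, ht⟩ := hK.elim_finite_subcover U hU fun x _ ↦ Set.mem_iUnion.mpr ⟨x, hxU x⟩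
  have : ∀ i : t, NoetherianSpace (U i) := fun i ↦ hN _
  have h1 : NoetherianSpace (⋃ i : t, U i) := NoetherianSpace.iUnion _
  have hsub : K ⊆ ⋃ i : t, U i := fun x hx ↦ by
    obtain ⟨i, hi, hxi⟩ := Set.mem_iUnion₂.mp (ht hx)
    exact Set.mem_iUnion.mpr ⟨⟨i, hi⟩, hxi⟩
  exact (Topology.IsEmbedding.inclusion hsub).isInducing.noetherianSpace

lemma isCompact_subset
    (h : ∀ x : α, ∃ U : Set α, IsOpen U ∧ x ∈ U ∧ NoetherianSpace U) {K s : Set α}
    (hK : IsCompact K) (hs : s ⊆ K) : IsCompact s := by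
  have := noetherianSpace_of_isCompact h hK
  rw [← Set.image_preimage_eq_of_subset (s := s) (f := ((↑) : K → α))
    (by simpa using hs)]
  exact (NoetherianSpace.isCompact _).image continuous_subtype_val

end Groth.Agent.NoethTop
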